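import Mathlib.CategoryTheory.Monoidal.Braided.Basic
import Mathlib.CategoryTheory.Monoidal.NaturalTransformation
import Mathlib.CategoryTheory.Groupoid
import Mathlib.CategoryTheory.Equivalence
import Mathlib.CategoryTheory.Whiskering

/-!
The Picard category generated by a symmetric monoidal category: formal expressions with duals,
formal morphisms, identified when they agree under every interpretation in a Picard category.
-/

set_option autoImplicit false

universe v u u' v'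

namespace Groth.Agent.Picard51

open CategoryTheory MonoidalCategory Functor.LaxMonoidal

inductive Obj (A : Type u) (pt : PUnit.{u' + 1} × PUnit.{v' + 1}) : Type u
  | of : A → Obj A pt
  | unit : Obj A pt
  | tensor : Obj A pt → Obj A pt → Obj A pt
  | dual : Obj A pt → Obj A pt

variable (A : Type u) [Category.{v} A] [MonoidalCategory A] [SymmetricCategory A]

inductive Raw (pt : PUnit.{u' + 1} × PUnit.{v' + 1}) : Obj A pt → Obj A pt → Type (max u v)
  | id (X : Obj A pt) : Raw pt X X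
  | comp {X Y Z : Obj A pt} (f : Raw pt X Y) (g : Raw pt Y Z) : Raw pt X Z
  | wl (X : Obj A pt) {Y Z : Obj A pt} (f : Raw pt Y Z) : Raw pt (X.tensor Y) (X.tensor Z)
  | wr {X Y : Obj A pt} (f : Raw pt X Y) (Z : Obj A pt) : Raw pt (X.tensor Z) (Y.tensor Z)
  | αh (X Y Z : Obj A pt) : Raw pt ((X.tensor Y).tensor Z) (X.tensor (Y.tensor Z))
  | αi (X Y Z : Obj A pt) : Raw pt (X.tensor (Y.tensor Z)) ((X.tensor Y).tensor Z)
  | lh (X : Obj A pt) : Raw pt (Obj.unit.tensor X) X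
  | li (X : Obj A pt) : Raw pt X (Obj.unit.tensor X)
  | rh (X : Obj A pt) : Raw pt (X.tensor Obj.unit) X
  | ri (X : Obj A pt) : Raw pt X (X.tensor Obj.unit)
  | br (X Y : Obj A pt) : Raw pt (X.tensor Y) (Y.tensor X)
  | of {a b : A} (f : a ⟶ b) : Raw pt (.of a) (.of b)
  | mu (a b : A) : Raw pt ((Obj.of a).tensor (.of b)) (.of (a ⊗ b))
  | muInv (a b : A) : Raw pt (.of (a ⊗ b)) ((Obj.of a).tensor (.of b))
  | eps : Raw pt .unit (.of (𝟙_ A))
  | epsInv : Raw pt (.of (𝟙_ A)) .unit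
  | eta (X : Obj A pt) : Raw pt (X.tensor X.dual) .unit
  | etaInv (X : Obj A pt) : Raw pt .unit (X.tensor X.dual)

/-- An interpretation of the formal expressions in a Picard category. -/
structure Interp where
  P : Type u'
  [cat : Category.{v'} P]
  [mon : MonoidalCategory P]
  [sym : SymmetricCategory P]
  [gpd : IsGroupoid P]
  Φ : A ⥤ P
  [lax : Φ.LaxBraided]
  d : P → P
  η : ∀ X : P, X ⊗ d X ≅ 𝟙_ P

attribute [instance] Interp.cat Interp.mon Interp.sym Interp.gpd Interp.lax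

variable {A} {pt : PUnit.{u' + 1} × PUnit.{v' + 1}}

@[simp]
def Interp.evalObj (I : Interp.{v, u, u', v'} A) : Obj A pt → I.P
  | .of a => I.Φ.obj a
  | .unit => 𝟙_ I.P
  | .tensor X Y => I.evalObj X ⊗ I.evalObj Y
  | .dual X => I.d (I.evalObj X)

noncomputable def Interp.muI (I : Interp.{v, u, u', v'} A) (a b : A) :
    I.Φ.obj (a ⊗ b) ⟶ I.Φ.obj a ⊗ I.Φ.obj b := CategoryTheory.inv (μ I.Φ a b)

@[simp]
lemma Interp.μ_muI (I : Interp.{v, u, u', v'} A) (a b : A) :
    μ I.Φ a b ≫ I.muI a b = 𝟙 _ := IsIso.hom_inv_id (μ I.Φ a b)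

@[simp]
lemma Interp.muI_μ (I : Interp.{v, u, u', v'} A) (a b : A) :
    I.muI a b ≫ μ I.Φ a b = 𝟙 _ := IsIso.inv_hom_id (μ I.Φ a b)

noncomputable def Interp.epsI (I : Interp.{v, u, u', v'} A) : I.Φ.obj (𝟙_ A) ⟶ 𝟙_ I.P :=
  CategoryTheory.inv (ε I.Φ)

@[simp]
lemma Interp.ε_epsI (I : Interp.{v, u, u', v'} A) : ε I.Φ ≫ I.epsI = 𝟙 _ :=
  IsIso.hom_inv_id (ε I.Φ)

@[simp]
lemma Interp.epsI_ε (I : Interp.{v, u, u', v'} A) : I.epsI ≫ ε I.Φ = 𝟙 _ :=
  IsIso.inv_hom_id (ε I.Φ)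

@[simp]
noncomputable def Interp.eval (I : Interp.{v, u, u', v'} A) :
    ∀ {X Y : Obj A pt}, Raw A pt X Y → (I.evalObj X ⟶ I.evalObj Y)
  | _, _, .id _ => 𝟙 _
  | _, _, .comp f g => I.eval f ≫ I.eval g
  | _, _, .wl X f => I.evalObj X ◁ I.eval f
  | _, _, .wr f Z => I.eval f ▷ I.evalObj Z
  | _, _, .αh X Y Z => (α_ (I.evalObj X) (I.evalObj Y) (I.evalObj Z)).hom
  | _, _, .αi X Y Z => (α_ (I.evalObj X) (I.evalObj Y) (I.evalObj Z)).inv
  | _, _, .lh X => (λ_ (I.evalObj X)).hom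
  | _, _, .li X => (λ_ (I.evalObj X)).inv
  | _, _, .rh X => (ρ_ (I.evalObj X)).hom
  | _, _, .ri X => (ρ_ (I.evalObj X)).inv
  | _, _, .br X Y => (β_ (I.evalObj X) (I.evalObj Y)).hom
  | _, _, .of f => I.Φ.map f
  | _, _, .mu a b => μ I.Φ a b
  | _, _, .muInv a b => I.muI a b
  | _, _, .eps => ε I.Φ
  | _, _, .epsInv => I.epsI
  | _, _, .eta X => (I.η (I.evalObj X)).hom
  | _, _, .etaInv X => (I.η (I.evalObj X)).inv

variable (A) (pt)

def rel (X Y : Obj A pt) : Setoid (Raw A pt X Y) where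
  r f g := ∀ I : Interp.{v, u, u', v'} A, I.eval f = I.eval g
  iseqv := ⟨fun _ _ => rfl, fun h I => (h I).symm, fun h h' I => (h I).trans (h' I)⟩

instance : CategoryStruct.{max u v} (Obj A pt) where
  Hom X Y := Quotient (rel A pt X Y)
  id X := Quotient.mk _ (.id X)
  comp := Quotient.map₂ Raw.comp (fun f f' hf g g' hg I => by simp [hf I, hg I])

instance category : Category.{max u v} (Obj A pt) where
  id_comp := by rintro X Y ⟨f⟩; exact Quotient.sound fun I => by simp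
  comp_id := by rintro X Y ⟨f⟩; exact Quotient.sound fun I => by simp
  assoc := by rintro W X Y Z ⟨f⟩ ⟨g⟩ ⟨h⟩; exact Quotient.sound fun I => by simp

variable {A pt}

def mk {X Y : Obj A pt} (f : Raw A pt X Y) : @Quiver.Hom (Obj A pt) _ X Y := Quotient.mk _ f

noncomputable instance monoidalStruct : MonoidalCategoryStruct (Obj A pt) where
  tensorObj X Y := Obj.tensor X Y
  tensorHom := Quotient.map₂ (fun f g => Raw.comp (Raw.wr f _) (Raw.wl _ g))
    (fun f f' hf g g' hg I => by simp [hf I, hg I])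
  whiskerLeft X _ _ f := Quotient.map (fun f => Raw.wl X f)
    (fun f f' h I => by simp [h I]) f
  whiskerRight f Z := Quotient.map (fun f => Raw.wr f Z) (fun f f' h I => by simp [h I]) f
  tensorUnit := Obj.unit
  associator X Y Z := ⟨mk (.αh X Y Z), mk (.αi X Y Z), Quotient.sound fun I => by simp,
    Quotient.sound fun I => by simp⟩
  leftUnitor X := ⟨mk (.lh X), mk (.li X), Quotient.sound fun I => by simp,
    Quotient.sound fun I => by simp⟩
  rightUnitor X := ⟨mk (.rh X), mk (.ri X), Quotient.sound fun I => by simp,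
    Quotient.sound fun I => by simp⟩

@[simp]
lemma evalObj_tensorObj (I : Interp.{v, u, u', v'} A) (X Y : (Obj A pt)) :
    I.evalObj (X ⊗ Y : (Obj A pt)) = I.evalObj X ⊗ I.evalObj Y := rfl

@[simp]
lemma evalObj_tensorUnit (I : Interp.{v, u, u', v'} A) :
    I.evalObj (𝟙_ (Obj A pt)) = 𝟙_ I.P := rfl

lemma tensor_comp_aux {P : Type u'} [Category.{v'} P] [MonoidalCategory P]
    {X₁ Y₁ Z₁ X₂ Y₂ Z₂ : P} (f₁ : X₁ ⟶ Y₁) (f₂ : X₂ ⟶ Y₂) (g₁ : Y₁ ⟶ Z₁) (g₂ : Y₂ ⟶ Z₂) :
    (f₁ ▷ X₂ ≫ Y₁ ◁ f₂) ≫ g₁ ▷ Y₂ ≫ Z₁ ◁ g₂ =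
      (f₁ ≫ g₁) ▷ X₂ ≫ Z₁ ◁ (f₂ ≫ g₂) := by
  simp only [← MonoidalCategory.tensorHom_def, tensorHom_comp_tensorHom]

lemma assoc_nat_aux {P : Type u'} [Category.{v'} P] [MonoidalCategory P]
    {X₁ X₂ X₃ Y₁ Y₂ Y₃ : P} (f₁ : X₁ ⟶ Y₁) (f₂ : X₂ ⟶ Y₂) (f₃ : X₃ ⟶ Y₃) :
    ((f₁ ▷ X₂ ≫ Y₁ ◁ f₂) ▷ X₃ ≫ (Y₁ ⊗ Y₂) ◁ f₃) ≫ (α_ Y₁ Y₂ Y₃).hom =
      (α_ X₁ X₂ X₃).hom ≫ f₁ ▷ (X₂ ⊗ X₃) ≫ Y₁ ◁ (f₂ ▷ X₃ ≫ Y₂ ◁ f₃) := by
  simp only [← MonoidalCategory.tensorHom_def]
  exact MonoidalCategory.associator_naturality f₁ f₂ f₃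

noncomputable instance monoidal : MonoidalCategory (Obj A pt) where
  tensorHom_def := by rintro X₁ Y₁ X₂ Y₂ ⟨f⟩ ⟨g⟩; exact Quotient.sound fun I => rfl
  id_tensorHom_id X Y := Quotient.sound fun I => by simp
  tensorHom_comp_tensorHom := by
    rintro X₁ Y₁ Z₁ X₂ Y₂ Z₂ ⟨f₁⟩ ⟨f₂⟩ ⟨g₁⟩ ⟨g₂⟩
    exact Quotient.sound fun I => tensor_comp_aux (I.eval f₁) (I.eval f₂) (I.eval g₁) (I.eval g₂)
  whiskerLeft_id X Y := Quotient.sound fun I => MonoidalCategory.whiskerLeft_id _ _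
  id_whiskerRight X Y := Quotient.sound fun I => MonoidalCategory.id_whiskerRight _ _
  associator_naturality := by
    rintro X₁ X₂ X₃ Y₁ Y₂ Y₃ ⟨f₁⟩ ⟨f₂⟩ ⟨f₃⟩
    exact Quotient.sound fun I => assoc_nat_aux (I.eval f₁) (I.eval f₂) (I.eval f₃)
  leftUnitor_naturality := by
    rintro X Y ⟨f⟩; exact Quotient.sound fun I => MonoidalCategory.leftUnitor_naturality (I.eval f)
  rightUnitor_naturality := by
    rintro X Y ⟨f⟩; exact Quotient.sound fun I => MonoidalCategory.rightUnitor_naturality (I.eval f)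
  pentagon W X Y Z := Quotient.sound fun I => MonoidalCategory.pentagon _ _ _ _
  triangle X Y := Quotient.sound fun I => MonoidalCategory.triangle _ _

noncomputable instance braided : BraidedCategory (Obj A pt) where
  braiding X Y := ⟨mk (.br X Y), mk (.br Y X), Quotient.sound fun I => by simp,
    Quotient.sound fun I => by simp⟩
  braiding_naturality_right := by rintro X Y Z ⟨f⟩; exact Quotient.sound fun I => by simp
  braiding_naturality_left := by rintro X Y ⟨f⟩ Z; exact Quotient.sound fun I => by simp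
  hexagon_forward X Y Z := Quotient.sound fun I => by simp
  hexagon_reverse X Y Z := Quotient.sound fun I => by
    simp

noncomputable instance symmetric : SymmetricCategory (Obj A pt) where
  symmetry X Y := Quotient.sound fun I => by simp

variable (A pt)

def incl : A ⥤ (Obj A pt) where
  obj a := Obj.of a
  map f := mk (.of f)
  map_id a := Quotient.sound fun I => by simp
  map_comp f g := Quotient.sound fun I => by simp

@[simp]
lemma evalObj_incl (I : Interp.{v, u, u', v'} A) (a : A) :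
    I.evalObj ((incl A pt).obj a) = I.Φ.obj a := rfl

noncomputable instance inclLaxBraided : (incl A pt).LaxBraided where
  ε := mk .eps
  μ a b := mk (.mu a b)
  μ_natural_left f c := Quotient.sound fun I => by simp
  μ_natural_right c f := Quotient.sound fun I => by simp
  associativity a b c := Quotient.sound fun I => by simp
  left_unitality a := Quotient.sound fun I => by simp
  right_unitality a := Quotient.sound fun I => by simp
  braided a b := Quotient.sound fun I => by simp [Functor.LaxBraided.braided]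

end Groth.Agent.Picard51
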