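import Groth.Agent.Picard51.Basic

set_option autoImplicit false

universe v u u' v'

namespace Groth.Agent.Picard51

open CategoryTheory MonoidalCategory Functor.LaxMonoidal

variable {A : Type u} [Category.{v} A] [MonoidalCategory A] [SymmetricCategory A] [IsGroupoid A]
  {pt : PUnit.{u' + 1} × PUnit.{v' + 1}}

lemma isIso_mk {X Y : Obj A pt} (f : Raw A pt X Y) :
    IsIso (C := Obj A pt) (mk f) := by
  induction f with
  | id X => exact inferInstanceAs (IsIso (𝟙 (X : Obj A pt)))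
  | comp f g hf hg => exact IsIso.comp_isIso' hf hg
  | wl X f hf => exact @MonoidalCategory.whiskerLeft_isIso _ _ _ (X : Obj A pt) _ _ (mk f) hf
  | wr f Z hf => exact @MonoidalCategory.whiskerRight_isIso _ _ _ _ _ (mk f) (Z : Obj A pt) hf
  | αh X Y Z => exact ⟨mk (.αi X Y Z), Quotient.sound fun I => by simp, Quotient.sound fun I => by simp⟩
  | αi X Y Z => exact ⟨mk (.αh X Y Z), Quotient.sound fun I => by simp, Quotient.sound fun I => by simp⟩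
  | lh X => exact ⟨mk (.li X), Quotient.sound fun I => by simp, Quotient.sound fun I => by simp⟩
  | li X => exact ⟨mk (.lh X), Quotient.sound fun I => by simp, Quotient.sound fun I => by simp⟩
  | rh X => exact ⟨mk (.ri X), Quotient.sound fun I => by simp, Quotient.sound fun I => by simp⟩
  | ri X => exact ⟨mk (.rh X), Quotient.sound fun I => by simp, Quotient.sound fun I => by simp⟩
  | br X Y => exact ⟨mk (.br Y X), Quotient.sound fun I => by simp, Quotient.sound fun I => by simp⟩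
  | of f =>
    exact ⟨mk (.of (CategoryTheory.inv f)), Quotient.sound fun I => by simp,
      Quotient.sound fun I => by simp⟩
  | mu a b => exact ⟨mk (.muInv a b), Quotient.sound fun I => by simp, Quotient.sound fun I => by simp⟩
  | muInv a b => exact ⟨mk (.mu a b), Quotient.sound fun I => by simp, Quotient.sound fun I => by simp⟩
  | eps => exact ⟨mk .epsInv, Quotient.sound fun I => by simp, Quotient.sound fun I => by simp⟩
  | epsInv => exact ⟨mk .eps, Quotient.sound fun I => by simp, Quotient.sound fun I => by simp⟩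
  | eta X => exact ⟨mk (.etaInv X), Quotient.sound fun I => by simp, Quotient.sound fun I => by simp⟩
  | etaInv X => exact ⟨mk (.eta X), Quotient.sound fun I => by simp, Quotient.sound fun I => by simp⟩

instance isGroupoid : IsGroupoid (Obj A pt) where
  all_isIso := by rintro X Y ⟨f⟩; exact isIso_mk f

/-- The formal dual of an object, as an isomorphism. -/
noncomputable def etaIso (X : Obj A pt) :
    X ⊗ (Obj.dual X : Obj A pt) ≅ 𝟙_ (Obj A pt) :=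
  ⟨mk (.eta X), mk (.etaInv X), Quotient.sound fun I => (I.η _).hom_inv_id,
    Quotient.sound fun I => (I.η _).inv_hom_id⟩

omit [IsGroupoid A] in
lemma isEquivalence_tensor (X : Obj A pt) :
    (tensorLeft X).IsEquivalence ∧ (tensorRight X).IsEquivalence := by
  let Y : Obj A pt := Obj.dual X
  let u₁ : tensorLeft X ⋙ tensorLeft Y ≅ 𝟭 _ :=
    (tensorLeftTensor Y X).symm ≪≫ (curriedTensor _).mapIso ((β_ Y X) ≪≫ etaIso X) ≪≫
      leftUnitorNatIso _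
  let u₂ : tensorLeft Y ⋙ tensorLeft X ≅ 𝟭 _ :=
    (tensorLeftTensor X Y).symm ≪≫ (curriedTensor _).mapIso (etaIso X) ≪≫ leftUnitorNatIso _
  have h : (tensorLeft X).IsEquivalence :=
    (CategoryTheory.Equivalence.mk (tensorLeft X) (tensorLeft Y) u₁.symm u₂).isEquivalence_functor
  exact ⟨h, Functor.isEquivalence_of_iso (BraidedCategory.tensorLeftIsoTensorRight X)⟩

omit [IsGroupoid A]

/-- Evaluation in an interpretation. -/
noncomputable def lift (I : Interp.{v, u, u', v'} A) : Obj A pt ⥤ I.P where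
  obj X := I.evalObj X
  map := Quotient.lift I.eval (fun f g h => h I)
  map_id X := rfl
  map_comp := by rintro X Y Z ⟨f⟩ ⟨g⟩; rfl

noncomputable instance liftLaxBraided (I : Interp.{v, u, u', v'} A) :
    (lift (pt := pt) I).LaxBraided where
  ε := 𝟙 _
  μ X Y := 𝟙 _
  μ_natural_left := by rintro X Y ⟨f⟩ X'; exact (Category.comp_id _).trans (Category.id_comp _).symm
  μ_natural_right := by rintro X Y X' ⟨f⟩; exact (Category.comp_id _).trans (Category.id_comp _).symm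
  associativity X Y Z := by
    change 𝟙 (I.evalObj X ⊗ I.evalObj Y) ▷ I.evalObj Z ≫ 𝟙 _ ≫
      (α_ (I.evalObj X) (I.evalObj Y) (I.evalObj Z)).hom = _ ≫ I.evalObj X ◁ 𝟙 (I.evalObj Y ⊗ I.evalObj Z) ≫ 𝟙 _
    simp only [MonoidalCategory.id_whiskerRight, MonoidalCategory.whiskerLeft_id, Category.id_comp]
    exact (Category.comp_id _).symm
  left_unitality X := by
    change (λ_ (I.evalObj X)).hom = 𝟙 (𝟙_ I.P) ▷ I.evalObj X ≫ 𝟙 _ ≫ (λ_ (I.evalObj X)).hom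
    simp
  right_unitality X := by
    change (ρ_ (I.evalObj X)).hom = I.evalObj X ◁ 𝟙 (𝟙_ I.P) ≫ 𝟙 _ ≫ (ρ_ (I.evalObj X)).hom
    simp
  braided X Y := by
    change 𝟙 _ ≫ (β_ (I.evalObj X) (I.evalObj Y)).hom = (β_ (I.evalObj X) (I.evalObj Y)).hom ≫ 𝟙 _
    simp

/-- The comparison of a functor with the lift of an interpretation extending it. -/
noncomputable def factorIso (I : Interp.{v, u, u', v'} A) : incl A pt ⋙ lift I ≅ I.Φ :=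
  NatIso.ofComponents (fun a => Iso.refl (I.Φ.obj a))
    (fun _ => (Category.comp_id _).trans (Category.id_comp _).symm)

lemma factorIso_isMonoidal (I : Interp.{v, u, u', v'} A) :
    NatTrans.IsMonoidal (factorIso (pt := pt) I).hom where
  unit := by
    change (𝟙 (𝟙_ I.P) ≫ ε I.Φ) ≫ 𝟙 _ = ε I.Φ
    simp
  tensor a b := by
    change (𝟙 (I.Φ.obj a ⊗ I.Φ.obj b) ≫ μ I.Φ a b) ≫ 𝟙 _ =
      (𝟙 (I.Φ.obj a) ⊗ₘ 𝟙 (I.Φ.obj b)) ≫ μ I.Φ a b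
    simp

lemma exists_factor_interp (I : Interp.{v, u, u', v'} A) :
    ∃ (Ψ : Obj A pt ⥤ I.P) (_ : Ψ.LaxBraided) (η : incl A pt ⋙ Ψ ≅ I.Φ),
      NatTrans.IsMonoidal η.hom :=
  ⟨lift I, liftLaxBraided I, factorIso I, factorIso_isMonoidal I⟩

lemma exists_factor {P : Type u'} [Category.{v'} P] [MonoidalCategory P] [SymmetricCategory P]
    [IsGroupoid P] (hP : ∀ X : P, (tensorLeft X).IsEquivalence ∧ (tensorRight X).IsEquivalence)
    (Φ : A ⥤ P) [Φ.LaxBraided] :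
    ∃ (Ψ : Obj A pt ⥤ P) (_ : Ψ.LaxBraided) (η : incl A pt ⋙ Ψ ≅ Φ),
      NatTrans.IsMonoidal η.hom := by
  have := fun X : P => (hP X).1
  exact exists_factor_interp
    { P := P, Φ := Φ, d := fun X => (tensorLeft X).objPreimage (𝟙_ P),
      η := fun X => (tensorLeft X).objObjPreimageIso (𝟙_ P) }

section Extend

variable {P : Type u'} [Category.{v'} P] [MonoidalCategory P] [SymmetricCategory P]
    [IsGroupoid P] (hP : ∀ X : P, (tensorLeft X).IsEquivalence ∧ (tensorRight X).IsEquivalence)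
    (Ψ Ψ' : Obj A pt ⥤ P) [Ψ.LaxBraided] [Ψ'.LaxBraided]
    (τ : incl A pt ⋙ Ψ ⟶ incl A pt ⋙ Ψ')

noncomputable def dualComp (X : Obj A pt) (t : Ψ.obj X ⟶ Ψ'.obj X)
    (t₁ : Ψ.obj (𝟙_ _) ⟶ Ψ'.obj (𝟙_ (Obj A pt))) :
    Ψ.obj (Obj.dual X) ⟶ Ψ'.obj (Obj.dual X) :=
  haveI := (hP (Ψ'.obj X)).1
  (tensorLeft (Ψ'.obj X)).preimage
    (CategoryTheory.inv t ▷ Ψ.obj (Obj.dual X) ≫ μ Ψ X (Obj.dual X : Obj A pt) ≫
      Ψ.map (etaIso X).hom ≫ t₁ ≫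
      Ψ'.map (etaIso X).inv ≫ CategoryTheory.inv (μ Ψ' X (Obj.dual X : Obj A pt)))

noncomputable def ext' : ∀ X : Obj A pt, Ψ.obj X ⟶ Ψ'.obj X
  | .of a => τ.app a
  | .unit => CategoryTheory.inv (ε Ψ) ≫ ε Ψ'
  | .tensor X Y => CategoryTheory.inv (μ Ψ (X : Obj A pt) (Y : Obj A pt)) ≫
      (ext' X ⊗ₘ ext' Y) ≫ μ Ψ' (X : Obj A pt) (Y : Obj A pt)
  | .dual X => dualComp hP Ψ Ψ' X (ext' X) (CategoryTheory.inv (ε Ψ) ≫ ε Ψ')

lemma whiskerLeft_dualComp (X : Obj A pt) (t : Ψ.obj X ⟶ Ψ'.obj X)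
    (t₁ : Ψ.obj (𝟙_ _) ⟶ Ψ'.obj (𝟙_ (Obj A pt))) :
    (t ⊗ₘ dualComp hP Ψ Ψ' X t t₁) ≫ μ Ψ' X (Obj.dual X : Obj A pt) ≫
      Ψ'.map (etaIso X).hom = μ Ψ X (Obj.dual X : Obj A pt) ≫ Ψ.map (etaIso X).hom ≫ t₁ := by
  have := (hP (Ψ'.obj X)).1
  have h : Ψ'.obj X ◁ dualComp hP Ψ Ψ' X t t₁ = _ :=
    Functor.map_preimage (tensorLeft (Ψ'.obj X)) _
  rw [MonoidalCategory.tensorHom_def, Category.assoc, h]
  simp [← comp_whiskerRight_assoc]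

local notation "e" => ext' hP Ψ Ψ' τ

@[reassoc]
lemma μ_ext (X Y : Obj A pt) : μ Ψ X Y ≫ e (X ⊗ Y) = (e X ⊗ₘ e Y) ≫ μ Ψ' X Y :=
  IsIso.hom_inv_id_assoc (μ Ψ X Y) _

@[reassoc]
lemma ε_ext : ε Ψ ≫ e (𝟙_ (Obj A pt)) = ε Ψ' :=
  IsIso.hom_inv_id_assoc (ε Ψ) _

lemma nat_inv {X Y : Obj A pt} {f : X ⟶ Y} {g : Y ⟶ X} (hfg : f ≫ g = 𝟙 X)
    (h : Ψ.map f ≫ e Y = e X ≫ Ψ'.map f) : Ψ.map g ≫ e X = e Y ≫ Ψ'.map g := by
  rw [← cancel_epi (Ψ.map f), ← Category.assoc, ← Functor.map_comp, hfg, ← Category.assoc, h,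
    Category.assoc, ← Functor.map_comp, hfg]
  simp

lemma nat_assoc (X Y Z : Obj A pt) :
    Ψ.map (α_ X Y Z).hom ≫ e (X ⊗ (Y ⊗ Z)) = e ((X ⊗ Y) ⊗ Z) ≫ Ψ'.map (α_ X Y Z).hom := by
  rw [← cancel_epi (μ Ψ (X ⊗ Y) Z), ← cancel_epi (μ Ψ X Y ▷ Ψ.obj Z),
    Functor.LaxMonoidal.associativity_assoc, μ_ext, μ_ext_assoc]
  calc (α_ (Ψ.obj X) (Ψ.obj Y) (Ψ.obj Z)).hom ≫ Ψ.obj X ◁ μ Ψ Y Z ≫
        (e X ⊗ₘ e (Y ⊗ Z)) ≫ μ Ψ' X (Y ⊗ Z)
      = (α_ (Ψ.obj X) (Ψ.obj Y) (Ψ.obj Z)).hom ≫ (e X ⊗ₘ e Y ⊗ₘ e Z) ≫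
        Ψ'.obj X ◁ μ Ψ' Y Z ≫ μ Ψ' X (Y ⊗ Z) := by
        rw [← id_tensorHom, ← id_tensorHom, tensorHom_comp_tensorHom_assoc,
          tensorHom_comp_tensorHom_assoc, Category.id_comp, Category.comp_id, μ_ext]
    _ = ((e X ⊗ₘ e Y) ⊗ₘ e Z) ≫ μ Ψ' X Y ▷ Ψ'.obj Z ≫ μ Ψ' (X ⊗ Y) Z ≫ Ψ'.map (α_ X Y Z).hom := by
        rw [← MonoidalCategory.associator_naturality_assoc, Functor.LaxMonoidal.associativity]
    _ = _ := by
        rw [← tensorHom_id, ← tensorHom_id, tensorHom_comp_tensorHom_assoc,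
          tensorHom_comp_tensorHom_assoc, Category.id_comp, Category.comp_id, μ_ext]

lemma nat_lunit (X : Obj A pt) :
    Ψ.map (λ_ X).hom ≫ e X = e (𝟙_ _ ⊗ X) ≫ Ψ'.map (λ_ X).hom := by
  rw [← cancel_epi (μ Ψ (𝟙_ _) X), ← cancel_epi (ε Ψ ▷ Ψ.obj X), μ_ext_assoc]
  calc ε Ψ ▷ Ψ.obj X ≫ μ Ψ (𝟙_ _) X ≫ Ψ.map (λ_ X).hom ≫ e X
      = (λ_ (Ψ.obj X)).hom ≫ e X := by rw [Functor.LaxMonoidal.left_unitality Ψ X]; simp
    _ = 𝟙_ P ◁ e X ≫ (λ_ (Ψ'.obj X)).hom := (MonoidalCategory.leftUnitor_naturality _).symm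
    _ = (ε Ψ' ⊗ₘ e X) ≫ μ Ψ' (𝟙_ _) X ≫ Ψ'.map (λ_ X).hom := by
        rw [Functor.LaxMonoidal.left_unitality Ψ' X, MonoidalCategory.tensorHom_def']; simp
    _ = _ := by
        rw [← tensorHom_id, tensorHom_comp_tensorHom_assoc, ε_ext, Category.id_comp]

lemma nat_runit (X : Obj A pt) :
    Ψ.map (ρ_ X).hom ≫ e X = e (X ⊗ 𝟙_ _) ≫ Ψ'.map (ρ_ X).hom := by
  rw [← cancel_epi (μ Ψ X (𝟙_ _)), ← cancel_epi (Ψ.obj X ◁ ε Ψ), μ_ext_assoc]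
  calc Ψ.obj X ◁ ε Ψ ≫ μ Ψ X (𝟙_ _) ≫ Ψ.map (ρ_ X).hom ≫ e X
      = (ρ_ (Ψ.obj X)).hom ≫ e X := by rw [Functor.LaxMonoidal.right_unitality Ψ X]; simp
    _ = e X ▷ 𝟙_ P ≫ (ρ_ (Ψ'.obj X)).hom := (MonoidalCategory.rightUnitor_naturality _).symm
    _ = (e X ⊗ₘ ε Ψ') ≫ μ Ψ' X (𝟙_ _) ≫ Ψ'.map (ρ_ X).hom := by
        rw [Functor.LaxMonoidal.right_unitality Ψ' X, MonoidalCategory.tensorHom_def]; simp
    _ = _ := by
        rw [← id_tensorHom, tensorHom_comp_tensorHom_assoc, ε_ext, Category.id_comp]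

lemma nat_braiding (X Y : Obj A pt) :
    Ψ.map (β_ X Y).hom ≫ e (Y ⊗ X) = e (X ⊗ Y) ≫ Ψ'.map (β_ X Y).hom := by
  rw [← cancel_epi (μ Ψ X Y), Functor.LaxBraided.braided_assoc, μ_ext, μ_ext_assoc,
    Functor.LaxBraided.braided, BraidedCategory.braiding_naturality_assoc]

lemma nat_whiskerLeft (X : Obj A pt) {Y Z : Obj A pt} (f : Y ⟶ Z)
    (hf : Ψ.map f ≫ e Z = e Y ≫ Ψ'.map f) :
    Ψ.map (X ◁ f) ≫ e (X ⊗ Z) = e (X ⊗ Y) ≫ Ψ'.map (X ◁ f) := by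
  rw [← cancel_epi (μ Ψ X Y), ← Functor.LaxMonoidal.μ_natural_right_assoc, μ_ext, μ_ext_assoc,
    ← Functor.LaxMonoidal.μ_natural_right, ← id_tensorHom, ← id_tensorHom,
    tensorHom_comp_tensorHom_assoc, tensorHom_comp_tensorHom_assoc, hf, Category.id_comp,
    Category.comp_id]

lemma nat_whiskerRight {Y Z : Obj A pt} (f : Y ⟶ Z) (X : Obj A pt)
    (hf : Ψ.map f ≫ e Z = e Y ≫ Ψ'.map f) :
    Ψ.map (f ▷ X) ≫ e (Z ⊗ X) = e (Y ⊗ X) ≫ Ψ'.map (f ▷ X) := by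
  rw [← cancel_epi (μ Ψ Y X), ← Functor.LaxMonoidal.μ_natural_left_assoc, μ_ext, μ_ext_assoc,
    ← Functor.LaxMonoidal.μ_natural_left, ← tensorHom_id, ← tensorHom_id,
    tensorHom_comp_tensorHom_assoc, tensorHom_comp_tensorHom_assoc, hf, Category.id_comp,
    Category.comp_id]

lemma nat_eta (X : Obj A pt) :
    Ψ.map (etaIso X).hom ≫ e (𝟙_ _) = e (X ⊗ (Obj.dual X : Obj A pt)) ≫ Ψ'.map (etaIso X).hom := by
  rw [← cancel_epi (μ Ψ X (Obj.dual X)), μ_ext_assoc]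
  exact (whiskerLeft_dualComp hP Ψ Ψ' X (e X) (e (𝟙_ _))).symm

variable {τ}

lemma nat_mu (hτ : NatTrans.IsMonoidal τ) (a b : A) :
    Ψ.map (mk (pt := pt) (.mu a b)) ≫ e (.of (a ⊗ b)) =
      e ((Obj.of a : Obj A pt) ⊗ Obj.of b) ≫ Ψ'.map (mk (pt := pt) (.mu a b)) := by
  refine (cancel_epi (μ Ψ (Obj.of a : Obj A pt) (Obj.of b))).1 ?_
  exact (Category.assoc _ _ _).symm.trans
    ((hτ.tensor a b).trans
      (μ_ext_assoc hP Ψ Ψ' τ (Obj.of a) (Obj.of b) (Ψ'.map (mk (.mu a b)))).symm)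

lemma nat_eps (hτ : NatTrans.IsMonoidal τ) :
    Ψ.map (mk (pt := pt) (Raw.eps (A := A))) ≫ e (.of (𝟙_ A)) =
      e (𝟙_ (Obj A pt)) ≫ Ψ'.map (mk (pt := pt) (Raw.eps (A := A))) := by
  refine (cancel_epi (ε Ψ)).1 ?_
  exact (Category.assoc _ _ _).symm.trans
    (hτ.unit.trans (ε_ext_assoc hP Ψ Ψ' τ _).symm)

lemma natural (hτ : NatTrans.IsMonoidal τ) {X Y : Obj A pt} (f : Raw A pt X Y) :
    Ψ.map (mk f) ≫ e Y = e X ≫ Ψ'.map (mk f) := by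
  induction f with
  | id X =>
    change Ψ.map (𝟙 X) ≫ _ = _ ≫ Ψ'.map (𝟙 X)
    simp
  | comp f g hf hg =>
    change Ψ.map (mk f ≫ mk g) ≫ _ = _ ≫ Ψ'.map (mk f ≫ mk g)
    simp only [Functor.map_comp, Category.assoc, hg]
    rw [← Category.assoc, hf, Category.assoc]
  | wl X f hf => exact nat_whiskerLeft hP Ψ Ψ' τ X (mk f) hf
  | wr f Z hf => exact nat_whiskerRight hP Ψ Ψ' τ (mk f) Z hf
  | αh X Y Z => exact nat_assoc hP Ψ Ψ' τ X Y Z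
  | αi X Y Z => exact nat_inv hP Ψ Ψ' τ (α_ X Y Z).hom_inv_id (nat_assoc hP Ψ Ψ' τ X Y Z)
  | lh X => exact nat_lunit hP Ψ Ψ' τ X
  | li X => exact nat_inv hP Ψ Ψ' τ (λ_ X).hom_inv_id (nat_lunit hP Ψ Ψ' τ X)
  | rh X => exact nat_runit hP Ψ Ψ' τ X
  | ri X => exact nat_inv hP Ψ Ψ' τ (ρ_ X).hom_inv_id (nat_runit hP Ψ Ψ' τ X)
  | br X Y => exact nat_braiding hP Ψ Ψ' τ X Y
  | of f => exact τ.naturality f
  | mu a b => exact nat_mu hP Ψ Ψ' hτ a b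
  | muInv a b =>
    exact nat_inv hP Ψ Ψ' τ (f := mk (.mu a b)) (Quotient.sound fun I => by simp)
      (nat_mu hP Ψ Ψ' hτ a b)
  | eps => exact nat_eps hP Ψ Ψ' hτ
  | epsInv =>
    exact nat_inv hP Ψ Ψ' τ (f := mk .eps) (Quotient.sound fun I => by simp)
      (nat_eps hP Ψ Ψ' hτ)
  | eta X => exact nat_eta hP Ψ Ψ' τ X
  | etaInv X => exact nat_inv hP Ψ Ψ' τ (etaIso X).hom_inv_id (nat_eta hP Ψ Ψ' τ X)

include hP in
lemma existsUnique_ext (hτ : NatTrans.IsMonoidal τ) :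
    ∃! θ : Ψ ⟶ Ψ', NatTrans.IsMonoidal θ ∧ Functor.whiskerLeft (incl A pt) θ = τ := by
  refine ⟨⟨e, ?_⟩, ⟨⟨ε_ext hP Ψ Ψ' τ, μ_ext hP Ψ Ψ' τ⟩, ?_⟩, ?_⟩
  · rintro X Y ⟨f⟩
    exact natural hP Ψ Ψ' hτ f
  · ext a
    rfl
  · rintro θ ⟨hθ, hθτ⟩
    ext X
    change θ.app X = e X
    induction X with
    | of a => exact congrArg (fun t : incl A pt ⋙ Ψ ⟶ incl A pt ⋙ Ψ' => t.app a) hθτ
    | unit => exact (cancel_epi (ε Ψ)).1 (hθ.unit.trans (ε_ext hP Ψ Ψ' τ).symm)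
    | tensor X Y hX hY =>
      refine (cancel_epi (μ Ψ X Y)).1 ((hθ.tensor X Y).trans ?_)
      rw [hX, hY]
      exact (μ_ext hP Ψ Ψ' τ X Y).symm
    | dual X hX =>
      have h1 : θ.app (𝟙_ (Obj A pt)) = e (𝟙_ (Obj A pt)) :=
        (cancel_epi (ε Ψ)).1 (hθ.unit.trans (ε_ext hP Ψ Ψ' τ).symm)
      have h2 : (θ.app X ⊗ₘ θ.app (Obj.dual X)) ≫ μ Ψ' X (Obj.dual X) ≫ Ψ'.map (etaIso X).hom =
          μ Ψ X (Obj.dual X) ≫ Ψ.map (etaIso X).hom ≫ θ.app (𝟙_ _) := by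
        rw [θ.naturality, ← Category.assoc, ← hθ.tensor]
        simp
      have h3 := h2
      rw [hX, h1, ← whiskerLeft_dualComp hP Ψ Ψ' X (e X) (e (𝟙_ _)), cancel_mono,
        MonoidalCategory.tensorHom_def, MonoidalCategory.tensorHom_def, cancel_epi] at h3
      have := (hP (Ψ'.obj X)).1
      exact (tensorLeft (Ψ'.obj X)).map_injective h3

end Extend

end Groth.Agent.Picard51
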